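import Groth.Agent.Lib.Lead.LinLES.Basic
import Groth.Agent.Lib.Helper29.QCohCrit
import Groth.Agent.Lib.Helper29.QCohGen

/-!
# Finite biproducts of `O_X`-modules: coherence and cohomology
-/

set_option autoImplicit false

universe u

open CategoryTheory CategoryTheory.Limits AlgebraicGeometry Opposite Abelian TopologicalSpace

namespace Groth.Agent.Lib.Lead.LinLES

open Groth.Agent.Lib.Helper29.QCoh

attribute [local instance] CategoryTheory.Abelian.hasFiniteBiproducts

section Sections

variable {X : Scheme.{u}} {ι : Type} [Fintype ι]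

lemma sum_app_apply {M N : X.Modules} (t : Finset ι) (φ : ι → (M ⟶ N)) (U : X.Opens)
    (s : Γ(M, U)) :
    (∑ j ∈ t, φ j).app U s = ∑ j ∈ t, (φ j).app U s := by
  classical
  induction t using Finset.induction_on with
  | empty => simp
  | insert a t ha ih =>
    rw [Finset.sum_insert ha, Finset.sum_insert ha, ← ih]
    rfl

lemma sections_total (L : ι → X.Modules) (U : X.Opens) (s : Γ((⨁ L : X.Modules), U)) :
    s = ∑ j, (biproduct.ι L j).app U ((biproduct.π L j).app U s) := by
  have h := biproduct.total (f := L)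
  have h2 := congrArg (fun φ : (⨁ L : X.Modules) ⟶ ⨁ L => φ.app U s) h
  simp only at h2
  rw [sum_app_apply] at h2
  rw [Scheme.Modules.Hom.id_app] at h2
  exact h2.symm

/-- The sections of a finite biproduct of modules with finitely generated sections are finitely
generated. -/
lemma module_finite_sections_biproduct (L : ι → X.Modules) (U : X.Opens)
    (h : ∀ j, Module.Finite Γ(X, U) Γ(L j, U)) :
    Module.Finite Γ(X, U) Γ((⨁ L : X.Modules), U) := by
  classical
  let f : (∀ j, Γ(L j, U)) →ₗ[Γ(X, U)] Γ((⨁ L : X.Modules), U) :=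
    LinearMap.lsum Γ(X, U) (fun j => Γ(L j, U)) Γ(X, U) (fun j => appₗ (biproduct.ι L j) U)
  have hf : Function.Surjective f := by
    intro s
    refine ⟨fun j => (biproduct.π L j).app U s, ?_⟩
    simp only [f, LinearMap.lsum_apply, LinearMap.sum_apply, LinearMap.comp_apply,
      LinearMap.proj_apply]
    exact (sections_total L U s).symm
  exact Module.Finite.of_surjective f hf

/-- A finite biproduct of quasi-coherent modules is quasi-coherent. -/
lemma isQuasicoherent_biproduct (L : ι → X.Modules) (h : ∀ j, (L j).IsQuasicoherent) :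
    (⨁ L : X.Modules).IsQuasicoherent := by
  have hq : (colimit (Discrete.functor L)).IsQuasicoherent :=
    isQuasicoherent_colimit_aux (Discrete.functor L) (fun j => h j.as)
  exact (SheafOfModules.isQuasicoherent X.ringCatSheaf).prop_of_iso
    (biproduct.isoCoproduct L).symm hq

/-- A finite biproduct of quasi-coherent modules of finite type is of finite type. -/
lemma isFiniteType_biproduct (L : ι → X.Modules) (h : ∀ j, (L j).IsQuasicoherent)
    (h' : ∀ j, (L j).IsFiniteType) : (⨁ L : X.Modules).IsFiniteType := by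
  haveI := isQuasicoherent_biproduct L h
  rw [isFiniteType_iff_forall_module_finite]
  intro U hU
  apply module_finite_sections_biproduct
  intro j
  haveI := h j
  haveI := h' j
  exact module_finite_of_isFiniteType (L j) hU

lemma isCoh_biproduct (L : ι → X.Modules) (h : ∀ j, Coh.IsCoh (L j)) :
    Coh.IsCoh (⨁ L : X.Modules) :=
  ⟨isQuasicoherent_biproduct L fun j => (h j).1,
    isFiniteType_biproduct L (fun j => (h j).1) fun j => (h j).2⟩

end Sections

section Cohomology

variable (A : Type u) [CommRing A] {X : Scheme.{u}} [X.Over (Spec (CommRingCat.of A))]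
  {ι : Type} [Fintype ι]

lemma HHlin_id (M : X.Modules) (q : ℕ) (x : Coh.HH X M q) : Canon.HHlin A (𝟙 M) q x = x := by
  change Sheaf.H.map ((toSheafAb X).map (𝟙 M)) q x = x
  rw [CategoryTheory.Functor.map_id]
  exact Sheaf.H.map_id_apply x

lemma HHlin_comp {M N P : X.Modules} (φ : M ⟶ N) (ψ : N ⟶ P) (q : ℕ) (x : Coh.HH X M q) :
    Canon.HHlin A (φ ≫ ψ) q x = Canon.HHlin A ψ q (Canon.HHlin A φ q x) := by
  change Sheaf.H.map ((toSheafAb X).map (φ ≫ ψ)) q x = _
  rw [CategoryTheory.Functor.map_comp]
  exact Sheaf.H.map_comp_apply _ _ x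

lemma HHlin_sum {M N : X.Modules} (t : Finset ι) (φ : ι → (M ⟶ N)) (q : ℕ) (x : Coh.HH X M q) :
    Canon.HHlin A (∑ j ∈ t, φ j) q x = ∑ j ∈ t, Canon.HHlin A (φ j) q x := by
  classical
  induction t using Finset.induction_on with
  | empty =>
    rw [Finset.sum_empty, Finset.sum_empty]
    change Sheaf.H.map ((toSheafAb X).map (0 : M ⟶ N)) q x = 0
    rw [CategoryTheory.Functor.map_zero]
    change ((Sheaf.functorH _ q).map (0 : Coh.toAb M ⟶ Coh.toAb N)).hom x = 0
    rw [CategoryTheory.Functor.map_zero]
    rfl
  | insert a t ha ih =>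
    rw [Finset.sum_insert ha, Finset.sum_insert ha, ← ih]
    change Sheaf.H.map ((toSheafAb X).map (φ a + ∑ j ∈ t, φ j)) q x = _
    rw [CategoryTheory.Functor.map_add]
    exact Sheaf.H.map_add_apply _ _ x

/-- The cohomology of a finite biproduct is generated by the cohomology of the summands. -/
lemma HH_total (L : ι → X.Modules) (q : ℕ) (x : Coh.HH X (⨁ L : X.Modules) q) :
    x = ∑ j, Canon.HHlin A (biproduct.ι L j) q (Canon.HHlin A (biproduct.π L j) q x) := by
  have h2 : Canon.HHlin A (∑ j, biproduct.π L j ≫ biproduct.ι L j) q x =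
      Canon.HHlin A (𝟙 _) q x := by
    rw [biproduct.total]
  rw [HHlin_sum, HHlin_id] at h2
  refine h2.symm.trans ?_
  apply Finset.sum_congr rfl
  intro j _
  rw [HHlin_comp]

/-- The cohomology of a finite biproduct of modules with finitely generated cohomology is
finitely generated. -/
theorem module_finite_HH_biproduct (L : ι → X.Modules) (q : ℕ)
    (h : ∀ j, Module.Finite A (Coh.HH X (L j) q)) :
    Module.Finite A (Coh.HH X (⨁ L : X.Modules) q) := by
  classical
  let f : (∀ j, Coh.HH X (L j) q) →ₗ[A] Coh.HH X (⨁ L : X.Modules) q :=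
    LinearMap.lsum A (fun j => Coh.HH X (L j) q) A (fun j => Canon.HHlin A (biproduct.ι L j) q)
  have hf : Function.Surjective f := by
    intro x
    refine ⟨fun j => Canon.HHlin A (biproduct.π L j) q x, ?_⟩
    simp only [f, LinearMap.lsum_apply, LinearMap.sum_apply, LinearMap.comp_apply,
      LinearMap.proj_apply]
    exact (HH_total A L q x).symm
  exact Module.Finite.of_surjective f hf

end Cohomology

end Groth.Agent.Lib.Lead.LinLES
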