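import Groth.Prelude.Def_Canon
import Groth.Agent.Lib.Helper29.SH1

/-!
# The long exact cohomology sequence of `O_X`-modules, linearly over the base ring

For `X` over `Spec A` and a short exact sequence `S` of `O_X`-modules, the maps of the long exact
sequence of `Coh.HH` are `A`-linear (`Canon.HHlin` for the functoriality maps, `δlin` for the
connecting maps), and the sequence is exact (`exact₁`, `exact₂`, `exact₃`).
-/

set_option autoImplicit false

universe u

open CategoryTheory CategoryTheory.Limits AlgebraicGeometry Opposite Abelian TopologicalSpace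

namespace Groth.Agent.Lib.Lead.LinLES

open Groth.Agent.Lib.Helper29.QCoh

section General

variable {X : Scheme.{u}}

/-- The map of abelian sheaves underlying a morphism of `O_X`-modules. -/
noncomputable abbrev abMap {F G : X.Modules} (φ : F ⟶ G) : Coh.toAb F ⟶ Coh.toAb G :=
  (SheafOfModules.toSheaf X.ringCatSheaf).map φ

/-- The image of a short complex of `O_X`-modules in abelian sheaves. -/
noncomputable def abS (S : ShortComplex X.Modules) :
    ShortComplex (Sheaf (Opens.grothendieckTopology X) AddCommGrpCat.{u}) :=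
  ShortComplex.mk (X₁ := Coh.toAb S.X₁) (X₂ := Coh.toAb S.X₂) (X₃ := Coh.toAb S.X₃)
    (abMap S.f) (abMap S.g) (S.map (toSheafAb X)).zero

lemma abS_shortExact (S : ShortComplex X.Modules) (hS : S.ShortExact) : (abS S).ShortExact :=
  shortExact_map_toSheafAb S hS

/-- The extension class of a short exact sequence of `O_X`-modules. -/
noncomputable def eC (S : ShortComplex X.Modules) (hS : S.ShortExact) :
    Ext (Coh.toAb S.X₃) (Coh.toAb S.X₁) 1 :=
  (abS_shortExact S hS).extClass

lemma abMap_comp_zero (S : ShortComplex X.Modules) :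
    (Ext.mk₀ (abMap S.f)).comp (Ext.mk₀ (abMap S.g)) (add_zero 0) = 0 := by
  rw [Ext.mk₀_comp_mk₀]
  have : abMap S.f ≫ abMap S.g = 0 := (abS S).zero
  rw [this, Ext.mk₀_zero]

lemma comp_eC (S : ShortComplex X.Modules) (hS : S.ShortExact) :
    (Ext.mk₀ (abMap S.g)).comp (eC S hS) (zero_add 1) = 0 :=
  (abS_shortExact S hS).comp_extClass

lemma eC_comp (S : ShortComplex X.Modules) (hS : S.ShortExact) :
    (eC S hS).comp (Ext.mk₀ (abMap S.f)) (add_zero 1) = 0 :=
  (abS_shortExact S hS).extClass_comp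

/-- Multiplication by a global function, as an endomorphism of the image of a short complex of
`O_X`-modules in abelian sheaves. -/
noncomputable def smulSC (S : ShortComplex X.Modules) (r : Coh.Γtop X) : abS S ⟶ abS S where
  τ₁ := Coh.smulAb S.X₁ r
  τ₂ := Coh.smulAb S.X₂ r
  τ₃ := Coh.smulAb S.X₃ r
  comm₁₂ := (Canon.toSheaf_map_comp_smulAb S.f r).symm
  comm₂₃ := (Canon.toSheaf_map_comp_smulAb S.g r).symm

lemma eC_smul (S : ShortComplex X.Modules) (hS : S.ShortExact) (r : Coh.Γtop X) :
    (eC S hS).comp (Ext.mk₀ (Coh.smulAb S.X₁ r)) (add_zero 1) =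
      (Ext.mk₀ (Coh.smulAb S.X₃ r)).comp (eC S hS) (zero_add 1) :=
  ShortComplex.ShortExact.extClass_naturality (abS_shortExact S hS) (abS_shortExact S hS)
    (smulSC S r)

end General

variable (A : Type u) [CommRing A] {X : Scheme.{u}} [X.Over (Spec (CommRingCat.of A))]

/-- The `A`-action on cohomology. -/
lemma smul_def (M : X.Modules) (q : ℕ) (a : A) (x : Coh.HH X M q) :
    a • x = Ext.comp x (Ext.mk₀ (Coh.smulAb M (Coh.toGlobal (X ↘ Spec (CommRingCat.of A)) a)))
      (add_zero q) := rfl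

/-- The connecting homomorphism of the long exact cohomology sequence, as an `A`-linear map. -/
noncomputable def δlin (S : ShortComplex X.Modules) (hS : S.ShortExact) (q : ℕ) :
    Coh.HH X S.X₃ q →ₗ[A] Coh.HH X S.X₁ (q + 1) where
  toFun x := Ext.comp x (eC S hS) rfl
  map_add' x y := Ext.add_comp _ _ _ _
  map_smul' a x := by
    rw [RingHom.id_apply, smul_def, smul_def, Ext.comp_assoc_of_second_deg_zero, ← eC_smul,
      Ext.comp_assoc_of_third_deg_zero]

lemma δlin_apply (S : ShortComplex X.Modules) (hS : S.ShortExact) (q : ℕ) (x : Coh.HH X S.X₃ q) :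
    δlin A S hS q x = Ext.comp x (eC S hS) rfl := rfl

lemma HHlin_apply {F G : X.Modules} (φ : F ⟶ G) (q : ℕ) (x : Coh.HH X F q) :
    Canon.HHlin A φ q x = Ext.comp x (Ext.mk₀ (abMap φ)) (add_zero q) :=
  rfl

/-- Exactness at `H^q(S.X₂)`. -/
theorem exact₂ (S : ShortComplex X.Modules) (hS : S.ShortExact) (q : ℕ) :
    Function.Exact (Canon.HHlin A S.f q) (Canon.HHlin A S.g q) := by
  intro x₂
  constructor
  · intro h
    obtain ⟨x₁, hx₁⟩ := Ext.covariant_sequence_exact₂ _ (abS_shortExact S hS) x₂ h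
    exact ⟨x₁, hx₁⟩
  · rintro ⟨x₁, rfl⟩
    rw [HHlin_apply, HHlin_apply, Ext.comp_assoc_of_second_deg_zero, abMap_comp_zero,
      Ext.comp_zero]

/-- Exactness at `H^q(S.X₃)`. -/
theorem exact₃ (S : ShortComplex X.Modules) (hS : S.ShortExact) (q : ℕ) :
    Function.Exact (Canon.HHlin A S.g q) (δlin A S hS q) := by
  intro x₃
  constructor
  · intro h
    obtain ⟨x₂, hx₂⟩ := Ext.covariant_sequence_exact₃ _ (abS_shortExact S hS) x₃ rfl h
    exact ⟨x₂, hx₂⟩
  · rintro ⟨x₂, rfl⟩
    rw [HHlin_apply, δlin_apply, Ext.comp_assoc_of_second_deg_zero, comp_eC, Ext.comp_zero]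

/-- Exactness at `H^{q+1}(S.X₁)`. -/
theorem exact₁ (S : ShortComplex X.Modules) (hS : S.ShortExact) (q : ℕ) :
    Function.Exact (δlin A S hS q) (Canon.HHlin A S.f (q + 1)) := by
  intro x₁
  constructor
  · intro h
    obtain ⟨x₃, hx₃⟩ := Ext.covariant_sequence_exact₁ _ (abS_shortExact S hS) x₁ h rfl
    exact ⟨x₃, hx₃⟩
  · rintro ⟨x₃, rfl⟩
    rw [HHlin_apply, δlin_apply, Ext.comp_assoc_of_third_deg_zero, eC_comp, Ext.comp_zero]

end Groth.Agent.Lib.Lead.LinLES
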